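import Mathlib
import Cfsg.Agent.Lib.Perm.Order1092
import Cfsg.Agent.Lib.SmallOrd.R3640.Cross
import Cfsg.Agent.Lib.SmallOrd.R3640.O5148
import Cfsg.Agent.Lib.SmallOrd.R3640.O5460
import Cfsg.Agent.Lib.SmallOrd.R3640.O6000
import Cfsg.Agent.Lib.SmallOrd.R3640.O4200
import Cfsg.Agent.Lib.SmallOrd.R3640.O5400
import Cfsg.Agent.Lib.SmallOrd.R3640.O5880
import Cfsg.Agent.S0974
import Cfsg.Agent.S0975
import Cfsg.Agent.S0976
import Cfsg.Agent.S0977
import Cfsg.Agent.S0978
import Cfsg.Agent.S0979
import Cfsg.Agent.S0980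

/-!
# Orders of non-abelian simple groups between 3640 and 6232

A table of certificates.
-/

set_option autoImplicit false
set_option linter.unusedVariables false
set_option linter.unusedSectionVars false
set_option maxRecDepth 100000

namespace Cfsg.Agent.Lib.SmallOrd.R3640

universe u

open Cfsg.Agent.Lib.Perm

/-- Certificates. -/
inductive TCert where
  | ok
  | sp
  | old (c : Order1092.Cert)
  | blk (p m : ℕ)

/-- The statement's list of orders. -/
def okT (n : ℕ) : Bool := n == 4080 || n == 5616 || n == 6048 || n == 6072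

/-- The orders treated one by one. -/
def spT (n : ℕ) : Bool :=
  n == 3648 || n == 3744 || n == 4032 || n == 4320 || n == 5040 || n == 5472 || n == 5760 || n == 3780 ||
    n == 3920 || n == 4200 || n == 4536 || n == 4620 || n == 4840 || n == 4896 || n == 5148 || n == 5400 ||
    n == 5460 || n == 5880 || n == 6000

/-- Validity of a certificate. -/
def validT : TCert → ℕ → Bool
  | .ok, n => okT n
  | .sp, n => spT n
  | .old c, n => Order1092.valid c n
  | .blk p m, n => primeB p && p != 2 && p != 3 && n == p * m && m % p != 0 && decide (1 < m) && blockOK p m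

/-- Validity of a list of certificates, for consecutive orders. -/
def checkT : List TCert → ℕ → Bool
  | [], _ => true
  | w :: l, n => validT w n && checkT l (n + 1)

theorem checkT_sound : ∀ (l : List TCert) (n : ℕ), checkT l n = true → ∀ k < l.length, ∃ w, validT w (n + k) = true
  | [], _, _, k, hk => by simp at hk
  | w :: l, n, h, 0, _ => by
      simp only [checkT, Bool.and_eq_true] at h
      exact ⟨w, h.1⟩
  | w :: l, n, h, k + 1, hk => by
      simp only [checkT, Bool.and_eq_true] at h
      simp only [List.length_cons, Nat.add_lt_add_iff_right] at hk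
      obtain ⟨w', hw'⟩ := checkT_sound l (n + 1) h.2 k hk
      refine ⟨w', ?_⟩
      have : n + (k + 1) = n + 1 + k := by omega
      rw [this]
      exact hw'

/-- The table. -/
def tblT : List TCert :=
  [
   (.old .odd), (.old .two), (.old .odd), (.old (.pq 2 2 911 1)), (.old .odd), (.old .two),
   (.old .odd), .sp, (.old .odd), (.old .two), (.old .odd), (.old (.f4 11 1 83 1)),
   (.old .odd), (.old .two), (.old .odd), (.old (.pq 2 3 457 1)), (.old .odd), (.old .two),
   (.old .odd), (.blk 61 60), (.old .odd), (.old .two), (.old .odd), (.old (.pq 2 4 229 1)),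
   (.old .odd), (.old .two), (.old .odd), (.old (.f4 7 1 131 1)), (.old .odd), (.old .two),
   (.old .odd), (.blk 17 216), (.old .odd), (.old .two), (.old .odd), (.old (.pq 2 2 919 1)),
   (.old .odd), (.old .two), (.old .odd), (.old (.pr 5 23 2 5)), (.old .odd), (.old .two),
   (.old .odd), (.old (.f4 3 1 307 1)), (.old .odd), (.old .two), (.old .odd), (.old (.pq 2 3 461 1)),
   (.old .odd), (.old .two), (.old .odd), (.old (.f4 13 1 71 1)), (.old .odd), (.old .two),
   (.old .odd), (.blk 11 336), (.old .odd), (.old .two), (.old .odd), (.old (.f4 5 2 37 1)),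
   (.old .odd), (.old .two), (.old .odd), (.old (.pq 2 3 463 1)), (.old .odd), (.old .two),
   (.old .odd), (.old (.f4 3 2 103 1)), (.old .odd), (.old .two), (.old .odd), (.old (.pq 2 7 29 1)),
   (.old .odd), (.old .two), (.old .odd), (.old (.pq 2 2 929 1)), (.old .odd), (.old .two),
   (.old .odd), (.blk 31 120), (.old .odd), (.old .two), (.old .odd), (.old (.f4 7 2 19 1)),
   (.old .odd), (.old .two), (.old .odd), (.old (.pq 2 4 233 1)), (.old .odd), (.old .two),
   (.old .odd), (.old (.f4 3 1 311 1)), (.old .odd), (.old .two), (.old .odd), (.old (.pq 2 3 467 1)),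
   (.old .odd), (.old .two), (.old .odd), (.blk 17 220), (.old .odd), (.old .two),
   (.old .odd), .sp, (.old .odd), (.old .two), (.old .odd), (.old (.pq 2 2 937 1)),
   (.old .odd), (.old .two), (.old .odd), (.old (.pr 7 67 2 3)), (.old .odd), (.old .two),
   (.old .odd), (.old (.f4 3 1 313 1)), (.old .odd), (.old .two), (.old .odd), (.old (.pr 5 47 2 4)),
   (.old .odd), (.old .two), (.old .odd), (.old (.pq 2 2 941 1)), (.old .odd), (.old .two),
   (.old .odd), (.old (.f3 157 1 2 3)), (.old .odd), (.old .two), (.old .odd), (.old (.f4 23 1 41 1)),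
   (.old .odd), (.old .two), (.old .odd), (.old (.pq 2 6 59 1)), (.old .odd), (.old .two),
   (.old .odd), .sp, (.old .odd), (.old .two), (.old .odd), (.old (.pr 11 43 2 3)),
   (.old .odd), (.old .two), (.old .odd), (.old (.pq 2 2 947 1)), (.old .odd), (.old .two),
   (.old .odd), (.old (.f3 79 1 2 4)), (.old .odd), (.old .two), (.old .odd), (.old (.f4 13 1 73 1)),
   (.old .odd), (.old .two), (.old .odd), (.blk 19 200), (.old .odd), (.old .two),
   (.old .odd), (.old (.f4 3 1 317 1)), (.old .odd), (.old .two), (.old .odd), (.old (.pr 7 17 2 5)),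
   (.old .odd), (.old .two), (.old .odd), (.old (.pq 2 2 953 1)), (.old .odd), (.old .two),
   (.old .odd), (.blk 53 72), (.old .odd), (.old .two), (.old .odd), (.old (.f4 5 1 191 1)),
   (.old .odd), (.old .two), (.old .odd), (.old (.pq 2 4 239 1)), (.old .odd), (.old .two),
   (.old .odd), (.blk 29 132), (.old .odd), (.old .two), (.old .odd), (.old (.pq 2 3 479 1)),
   (.old .odd), (.old .two), (.old .odd), (.old (.f4 7 1 137 1)), (.old .odd), (.old .two),
   (.old .odd), (.old (.f3 5 1 2 8)), (.old .odd), (.old .two), (.old .odd), (.old (.pq 2 2 31 2)),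
   (.old .odd), (.old .two), (.old .odd), (.old (.pr 13 37 2 3)), (.old .odd), (.old .two),
   (.old .odd), (.old (.f4 3 2 107 1)), (.old .odd), (.old .two), (.old .odd), (.old (.pq 2 4 241 1)),
   (.old .odd), (.old .two), (.old .odd), (.old (.f4 5 1 193 1)), (.old .odd), (.old .two),
   (.old .odd), (.blk 23 168), (.old .odd), (.old .two), (.old .odd), (.old (.pq 2 2 967 1)),
   (.old .odd), (.old .two), (.old .odd), (.old (.pq 2 5 11 2)), (.old .odd), (.old .two),
   (.old .odd), (.blk 19 204), (.old .odd), (.old .two), (.old .odd), (.old (.pr 5 97 2 3)),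
   (.old .odd), (.old .two), (.old .odd), (.old (.pq 2 2 971 1)), (.old .odd), (.old .two),
   (.old .odd), (.old (.pq 2 4 3 5)), (.old .odd), (.old .two), (.old .odd), (.old (.f4 7 1 139 1)),
   (.old .odd), (.old .two), (.old .odd), (.old (.pq 2 3 487 1)), (.old .odd), (.old .two),
   (.old .odd), (.blk 13 300), (.old .odd), (.old .two), (.old .odd), (.old (.pq 2 6 61 1)),
   (.old .odd), (.old .two), (.old .odd), (.old (.pq 2 2 977 1)), (.old .odd), (.old .two),
   (.old .odd), (.old (.f3 163 1 2 3)), (.old .odd), (.old .two), (.old .odd), (.old (.f4 11 1 89 1)),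
   (.old .odd), (.old .two), (.old .odd), .sp, (.old .odd), (.old .two),
   (.old .odd), (.old (.f4 3 2 109 1)), (.old .odd), (.old .two), (.old .odd), (.old (.pq 2 3 491 1)),
   (.old .odd), (.old .two), (.old .odd), (.old (.pq 2 2 983 1)), (.old .odd), (.old .two),
   (.old .odd), (.old (.f3 41 1 2 5)), (.old .odd), (.old .two), (.old .odd), (.old (.f4 5 1 197 1)),
   (.old .odd), (.old .two), (.old .odd), (.old (.pr 17 29 2 3)), (.old .odd), (.old .two),
   (.old .odd), (.blk 47 84), (.old .odd), (.old .two), (.old .odd), (.old (.pr 13 19 2 4)),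
   (.old .odd), (.old .two), (.old .odd), (.old (.f4 23 1 43 1)), (.old .odd), (.old .two),
   (.old .odd), (.blk 11 360), (.old .odd), (.old .two), (.old .odd), (.old (.pq 2 2 991 1)),
   (.old .odd), (.old .two), (.old .odd), (.old (.pq 2 7 31 1)), (.old .odd), (.old .two),
   (.old .odd), (.old (.f4 3 1 331 1)), (.old .odd), (.old .two), (.old .odd), (.old (.pr 7 71 2 3)),
   (.old .odd), (.old .two), (.old .odd), (.old (.f4 5 1 199 1)), (.old .odd), (.old .two),
   (.old .odd), (.old (.f3 83 1 2 4)), (.old .odd), (.old .two), (.old .odd), (.old (.pq 2 2 997 1)),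
   (.old .odd), (.old .two), (.old .odd), (.old (.pq 2 3 499 1)), (.old .odd), (.old .two),
   (.old .odd), (.old (.f4 37 1 3 3)), (.old .odd), (.old .two), (.old .odd), (.old (.pq 2 5 5 3)),
   (.old .odd), (.old .two), (.old .odd), (.blk 13 308), (.old .odd), (.old .two),
   (.old .odd), (.old (.f3 167 1 2 3)), (.old .odd), (.old .two), (.old .odd), (.old (.f4 17 1 59 1)),
   (.old .odd), (.old .two), (.old .odd), (.old (.pq 2 4 251 1)), (.old .odd), (.old .two),
   (.old .odd), (.blk 67 60), (.old .odd), (.old .two), (.old .odd), (.old (.pq 2 3 503 1)),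
   (.old .odd), (.old .two), (.old .odd), (.old (.f4 19 1 53 1)), (.old .odd), (.old .two),
   (.old .odd), .sp, (.old .odd), (.old .two), (.old .odd), (.old (.pq 2 2 1009 1)),
   (.old .odd), (.old .two), (.old .odd), (.old (.pr 5 101 2 3)), (.old .odd), (.old .two),
   (.old .odd), (.old (.f4 3 1 337 1)), (.old .odd), (.old .two), (.old .odd), (.old (.pr 11 23 2 4)),
   (.old .odd), (.old .two), (.old .odd), (.old (.pq 2 2 1013 1)), (.old .odd), (.old .two),
   (.old .odd), (.old (.f3 13 2 2 3)), (.old .odd), (.old .two), (.old .odd), (.blk 29 140),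
   (.old .odd), (.old .two), (.old .odd), (.old (.pq 2 5 127 1)), (.old .odd), (.old .two),
   (.old .odd), (.old (.f4 3 2 113 1)), (.old .odd), (.old .two), (.old .odd), (.old (.pq 2 3 509 1)),
   (.old .odd), (.old .two), (.old .odd), (.old (.pq 2 2 1019 1)), (.old .odd), (.old .two),
   (.old .odd), .ok, (.old .odd), (.old .two), (.old .odd), (.old (.pq 2 2 1021 1)),
   (.old .odd), (.old .two), (.old .odd), (.old (.pr 7 73 2 3)), (.old .odd), (.old .two),
   (.old .odd), (.blk 31 132), (.old .odd), (.old .two), (.old .odd), (.old (.pq 2 12 2 0)),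
   (.old .odd), (.old .two), (.old .odd), (.old (.f4 5 2 41 1)), (.old .odd), (.old .two),
   (.old .odd), (.blk 19 216), (.old .odd), (.old .two), (.old .odd), (.old (.f4 13 1 79 1)),
   (.old .odd), (.old .two), (.old .odd), (.old (.pq 2 4 257 1)), (.old .odd), (.old .two),
   (.old .odd), (.old (.f4 3 1 7 3)), (.old .odd), (.old .two), (.old .odd), (.old (.pr 5 103 2 3)),
   (.old .odd), (.old .two), (.old .odd), (.old (.pq 2 2 1031 1)), (.old .odd), (.old .two),
   (.old .odd), (.old (.f3 43 1 2 5)), (.old .odd), (.old .two), (.old .odd), (.old (.pq 2 2 1033 1)),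
   (.old .odd), (.old .two), (.old .odd), (.old (.pr 11 47 2 3)), (.old .odd), (.old .two),
   (.old .odd), (.blk 23 180), (.old .odd), (.old .two), (.old .odd), (.old (.pr 7 37 2 4)),
   (.old .odd), (.old .two), (.old .odd), (.old (.f4 17 1 61 1)), (.old .odd), (.old .two),
   (.old .odd), (.old (.f3 173 1 2 3)), (.old .odd), (.old .two), (.old .odd), (.old (.pq 2 2 1039 1)),
   (.old .odd), (.old .two), (.old .odd), (.old (.pr 5 13 2 6)), (.old .odd), (.old .two),
   (.old .odd), (.old (.f4 3 1 347 1)), (.old .odd), (.old .two), (.old .odd), (.old (.pq 2 3 521 1)),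
   (.old .odd), (.old .two), (.old .odd), (.old (.f4 7 1 149 1)), (.old .odd), (.old .two),
   (.old .odd), (.blk 29 144), (.old .odd), (.old .two), (.old .odd), (.blk 19 220),
   (.old .odd), (.old .two), (.old .odd), (.old (.pq 2 3 523 1)), (.old .odd), (.old .two),
   (.old .odd), (.old (.f4 3 1 349 1)), (.old .odd), (.old .two), (.old .odd), (.old (.pq 2 5 131 1)),
   (.old .odd), (.old .two), (.old .odd), (.old (.pq 2 2 1049 1)), (.old .odd), (.old .two),
   (.old .odd), .sp, (.old .odd), (.old .two), (.old .odd), (.old (.pq 2 2 1051 1)),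
   (.old .odd), (.old .two), (.old .odd), (.old (.pq 2 4 263 1)), (.old .odd), (.old .two),
   (.old .odd), (.old (.f4 13 1 3 4)), (.old .odd), (.old .two), (.old .odd), (.old (.pr 17 31 2 3)),
   (.old .odd), (.old .two), (.old .odd), (.old (.f4 5 1 211 1)), (.old .odd), (.old .two),
   (.old .odd), (.old (.f3 11 1 2 7)), (.old .odd), (.old .two), (.old .odd), (.old (.f4 7 1 151 1)),
   (.old .odd), (.old .two), (.old .odd), (.old (.pq 2 3 23 2)), (.old .odd), (.old .two),
   (.old .odd), (.old (.f4 3 1 353 1)), (.old .odd), (.old .two), (.old .odd), (.old (.pr 5 53 2 4)),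
   (.old .odd), (.old .two), (.old .odd), (.old (.pq 2 2 1061 1)), (.old .odd), (.old .two),
   (.old .odd), (.blk 59 72), (.old .odd), (.old .two), (.old .odd), (.old (.pq 2 2 1063 1)),
   (.old .odd), (.old .two), (.old .odd), (.old (.pr 7 19 2 5)), (.old .odd), (.old .two),
   (.old .odd), (.blk 71 60), (.old .odd), (.old .two), (.old .odd), (.old (.pr 13 41 2 3)),
   (.old .odd), (.old .two), (.old .odd), (.old (.f4 11 1 97 1)), (.old .odd), (.old .two),
   (.old .odd), (.old (.f3 89 1 2 4)), (.old .odd), (.old .two), (.old .odd), (.old (.pq 2 2 1069 1)),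
   (.old .odd), (.old .two), (.old .odd), (.old (.pr 5 107 2 3)), (.old .odd), (.old .two),
   (.old .odd), (.blk 17 252), (.old .odd), (.old .two), (.old .odd), (.old (.pq 2 6 67 1)),
   (.old .odd), (.old .two), (.old .odd), (.old (.f4 29 1 37 1)), (.old .odd), (.old .two),
   (.old .odd), (.old (.f3 179 1 2 3)), (.old .odd), (.old .two), (.old .odd), (.old (.f4 5 2 43 1)),
   (.old .odd), (.old .two), (.old .odd), (.old (.pq 2 4 269 1)), (.old .odd), (.old .two),
   (.old .odd), (.old (.f4 3 1 359 1)), (.old .odd), (.old .two), (.old .odd), (.blk 11 392),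
   (.old .odd), (.old .two), (.old .odd), (.old (.f4 13 1 83 1)), (.old .odd), (.old .two),
   (.old .odd), .sp, (.old .odd), (.old .two), (.old .odd), (.old (.f4 23 1 47 1)),
   (.old .odd), (.old .two), (.old .odd), (.old (.pq 2 3 541 1)), (.old .odd), (.old .two),
   (.old .odd), (.old (.f4 3 1 19 2)), (.old .odd), (.old .two), (.old .odd), (.old (.pq 2 4 271 1)),
   (.old .odd), (.old .two), (.old .odd), (.blk 31 140), (.old .odd), (.old .two),
   (.old .odd), (.old (.f3 181 1 2 3)), (.old .odd), (.old .two), (.old .odd), (.old (.pq 2 2 1087 1)),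
   (.old .odd), (.old .two), (.old .odd), (.old (.pq 2 8 17 1)), (.old .odd), (.old .two),
   (.old .odd), (.old (.f4 3 2 11 2)), (.old .odd), (.old .two), (.old .odd), (.old (.pr 5 109 2 3)),
   (.old .odd), (.old .two), (.old .odd), (.old (.pq 2 2 1091 1)), (.old .odd), (.old .two),
   (.old .odd), (.blk 13 336), (.old .odd), (.old .two), (.old .odd), (.old (.pq 2 2 1093 1)),
   (.old .odd), (.old .two), (.old .odd), (.old (.pq 2 3 547 1)), (.old .odd), (.old .two),
   (.old .odd), (.blk 73 60), (.old .odd), (.old .two), (.old .odd), (.old (.pq 2 5 137 1)),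
   (.old .odd), (.old .two), (.old .odd), (.old (.pq 2 2 1097 1)), (.old .odd), (.old .two),
   (.old .odd), (.blk 61 72), (.old .odd), (.old .two), (.old .odd), (.old (.f4 7 1 157 1)),
   (.old .odd), (.old .two), (.old .odd), (.blk 11 400), (.old .odd), (.old .two),
   (.old .odd), (.old (.f4 3 1 367 1)), (.old .odd), (.old .two), (.old .odd), (.old (.pr 19 29 2 3)),
   (.old .odd), (.old .two), (.old .odd), (.old (.pq 2 2 1103 1)), (.old .odd), (.old .two),
   (.old .odd), (.old (.f3 23 1 2 6)), (.old .odd), (.old .two), (.old .odd), (.blk 17 260),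
   (.old .odd), (.old .two), (.old .odd), (.old (.pr 7 79 2 3)), (.old .odd), (.old .two),
   (.old .odd), (.old (.f4 41 1 3 3)), (.old .odd), (.old .two), (.old .odd), (.old (.pq 2 4 277 1)),
   (.old .odd), (.old .two), (.old .odd), (.old (.pq 2 2 1109 1)), (.old .odd), (.old .two),
   (.old .odd), (.blk 37 120), (.old .odd), (.old .two), (.old .odd), (.old (.f4 11 1 101 1)),
   (.old .odd), (.old .two), (.old .odd), (.old (.pq 2 5 139 1)), (.old .odd), (.old .two),
   (.old .odd), (.blk 53 84), (.old .odd), (.old .two), (.old .odd), (.old (.pq 2 3 557 1)),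
   (.old .odd), (.old .two), (.old .odd), (.old (.f4 5 1 223 1)), (.old .odd), (.old .two),
   (.old .odd), (.blk 31 144), (.old .odd), (.old .two), (.old .odd), (.old (.pq 2 2 1117 1)),
   (.old .odd), (.old .two), (.old .odd), (.old (.pr 13 43 2 3)), (.old .odd), (.old .two),
   (.old .odd), (.old (.f4 3 1 373 1)), (.old .odd), (.old .two), (.old .odd), (.old (.pr 5 7 2 7)),
   (.old .odd), (.old .two), (.old .odd), (.old (.f4 19 1 59 1)), (.old .odd), (.old .two),
   (.old .odd), (.blk 17 264), (.old .odd), (.old .two), (.old .odd), (.old (.pq 2 2 1123 1)),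
   (.old .odd), (.old .two), (.old .odd), (.old (.pq 2 4 281 1)), (.old .odd), (.old .two),
   (.old .odd), (.old (.f4 3 2 5 3)), (.old .odd), (.old .two), (.old .odd), (.old (.pq 2 3 563 1)),
   (.old .odd), (.old .two), (.old .odd), (.old (.f4 7 2 23 1)), (.old .odd), (.old .two),
   (.old .odd), (.old (.f3 47 1 2 5)), (.old .odd), (.old .two), (.old .odd), (.old (.pq 2 2 1129 1)),
   (.old .odd), (.old .two), (.old .odd), (.old (.pr 5 113 2 3)), (.old .odd), (.old .two),
   (.old .odd), (.blk 29 156), (.old .odd), (.old .two), (.old .odd), (.old (.pq 2 4 283 1)),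
   (.old .odd), (.old .two), (.old .odd), (.old (.f4 11 1 103 1)), (.old .odd), (.old .two),
   (.old .odd), .sp, (.old .odd), (.old .two), (.old .odd), (.old (.f4 5 1 227 1)),
   (.old .odd), (.old .two), (.old .odd), (.old (.pq 2 6 71 1)), (.old .odd), (.old .two),
   (.old .odd), (.old (.f4 3 1 379 1)), (.old .odd), (.old .two), (.old .odd), (.old (.pq 2 3 569 1)),
   (.old .odd), (.old .two), (.old .odd), (.old (.f4 17 1 67 1)), (.old .odd), (.old .two),
   (.old .odd), (.blk 19 240), (.old .odd), (.old .two), (.old .odd), (.old (.f4 7 1 163 1)),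
   (.old .odd), (.old .two), (.old .odd), (.old (.pq 2 3 571 1)), (.old .odd), (.old .two),
   (.old .odd), (.old (.f4 3 2 127 1)), (.old .odd), (.old .two), (.old .odd), (.old (.pr 11 13 2 5)),
   (.old .odd), (.old .two), (.old .odd), (.old (.f4 5 1 229 1)), (.old .odd), (.old .two),
   (.old .odd), (.old (.f3 191 1 2 3)), (.old .odd), (.old .two), (.old .odd), (.old (.f4 31 1 37 1)),
   (.old .odd), (.old .two), (.old .odd), (.old (.pr 7 41 2 4)), (.old .odd), (.old .two),
   (.old .odd), (.old (.f4 3 1 383 1)), (.old .odd), (.old .two), (.old .odd), (.blk 23 200),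
   (.old .odd), (.old .two), (.old .odd), (.old (.pq 2 2 1151 1)), (.old .odd), (.old .two),
   (.old .odd), (.old (.pq 2 9 3 2)), (.old .odd), (.old .two), (.old .odd), (.old (.pq 2 2 1153 1)),
   (.old .odd), (.old .two), (.old .odd), (.old (.pq 2 3 577 1)), (.old .odd), (.old .two),
   (.old .odd), .sp, (.old .odd), (.old .two), (.old .odd), (.old (.pq 2 4 17 2)),
   (.old .odd), (.old .two), (.old .odd), (.old (.f4 13 1 89 1)), (.old .odd), (.old .two),
   (.old .odd), (.old (.f3 193 1 2 3)), (.old .odd), (.old .two), (.old .odd), (.old (.f4 19 1 61 1)),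
   (.old .odd), (.old .two), (.old .odd), (.old (.pr 5 29 2 5)), (.old .odd), (.old .two),
   (.old .odd), (.old (.f4 43 1 3 3)), (.old .odd), (.old .two), (.old .odd), (.old (.pr 7 83 2 3)),
   (.old .odd), (.old .two), (.old .odd), (.old (.pq 2 2 1163 1)), (.old .odd), (.old .two),
   (.old .odd), (.old (.f3 97 1 2 4)), (.old .odd), (.old .two), (.old .odd), (.old (.f4 5 1 233 1)),
   (.old .odd), (.old .two), (.old .odd), (.old (.pr 11 53 2 3)), (.old .odd), (.old .two),
   (.old .odd), (.old (.f4 3 1 389 1)), (.old .odd), (.old .two), (.old .odd), (.old (.pq 2 6 73 1)),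
   (.old .odd), (.old .two), (.old .odd), (.old (.f4 7 1 167 1)), (.old .odd), (.old .two),
   (.old .odd), (.blk 13 360), (.old .odd), (.old .two), (.old .odd), (.old (.pq 2 2 1171 1)),
   (.old .odd), (.old .two), (.old .odd), (.old (.pq 2 4 293 1)), (.old .odd), (.old .two),
   (.old .odd), (.blk 23 204), (.old .odd), (.old .two), (.old .odd), (.old (.pq 2 3 587 1)),
   (.old .odd), (.old .two), (.old .odd), (.old (.f4 5 2 47 1)), (.old .odd), (.old .two),
   (.old .odd), (.old (.f3 7 2 2 5)), (.old .odd), (.old .two), (.old .odd), (.old (.f4 11 1 107 1)),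
   (.old .odd), (.old .two), (.old .odd), (.old (.pr 19 31 2 3)), (.old .odd), (.old .two),
   (.old .odd), (.old (.f4 3 2 131 1)), (.old .odd), (.old .two), (.old .odd), (.old (.pr 5 59 2 4)),
   (.old .odd), (.old .two), (.old .odd), (.old (.pq 2 2 1181 1)), (.old .odd), (.old .two),
   (.old .odd), (.old (.f3 197 1 2 3)), (.old .odd), (.old .two), (.old .odd), (.old (.f4 7 1 13 2)),
   (.old .odd), (.old .two), (.old .odd), (.old (.pq 2 7 37 1)), (.old .odd), (.old .two),
   (.old .odd), (.blk 79 60), (.old .odd), (.old .two), (.old .odd), (.old (.pq 2 3 593 1)),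
   (.old .odd), (.old .two), (.old .odd), (.old (.pq 2 2 1187 1)), (.old .odd), (.old .two),
   (.old .odd), (.blk 11 432), (.old .odd), (.old .two), (.old .odd), (.old (.f4 29 1 41 1)),
   (.old .odd), (.old .two), (.old .odd), (.blk 7 680), (.old .odd), (.old .two),
   (.old .odd), (.old (.f4 3 1 397 1)), (.old .odd), (.old .two), (.old .odd), (.old (.pq 2 5 149 1)),
   (.old .odd), (.old .two), (.old .odd), (.old (.pq 2 2 1193 1)), (.old .odd), (.old .two),
   (.old .odd), (.old (.f3 199 1 2 3)), (.old .odd), (.old .two), (.old .odd), (.old (.f4 5 1 239 1)),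
   (.old .odd), (.old .two), (.old .odd), (.old (.pr 13 23 2 4)), (.old .odd), (.old .two),
   (.old .odd), (.blk 19 252), (.old .odd), (.old .two), (.old .odd), (.old (.pq 2 3 599 1)),
   (.old .odd), (.old .two), (.old .odd), (.old (.f4 11 1 109 1)), (.old .odd), (.old .two),
   (.old .odd), (.old (.f3 5 2 2 6)), (.old .odd), (.old .two), (.old .odd), (.old (.pq 2 2 1201 1)),
   (.old .odd), (.old .two), (.old .odd), (.old (.pq 2 3 601 1)), (.old .odd), (.old .two),
   (.old .odd), (.old (.f4 3 1 401 1)), (.old .odd), (.old .two), (.old .odd), (.old (.pr 7 43 2 4)),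
   (.old .odd), (.old .two), (.old .odd), (.old (.f4 5 1 241 1)), (.old .odd), (.old .two),
   (.old .odd), (.blk 67 72), (.old .odd), (.old .two), (.old .odd), (.old (.f4 17 1 71 1)),
   (.old .odd), (.old .two), (.old .odd), (.old (.pq 2 5 151 1)), (.old .odd), (.old .two),
   (.old .odd), (.blk 31 156), (.old .odd), (.old .two), (.old .odd), .sp,
   (.old .odd), (.old .two), (.old .odd), (.old (.f4 7 1 173 1)), (.old .odd), (.old .two),
   (.old .odd), (.old (.f3 101 1 2 4)), (.old .odd), (.old .two), (.old .odd), (.old (.pq 2 2 1213 1)),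
   (.old .odd), (.old .two), (.old .odd), (.old (.pq 2 3 607 1)), (.old .odd), (.old .two),
   (.old .odd), (.old (.f4 5 1 3 5)), (.old .odd), (.old .two), (.old .odd), (.old (.pq 2 8 19 1)),
   (.old .odd), (.old .two), (.old .odd), (.old (.pq 2 2 1217 1)), (.old .odd), (.old .two),
   (.old .odd), (.blk 29 168), (.old .odd), (.old .two), (.old .odd), (.old (.f4 23 1 53 1)),
   (.old .odd), (.old .two), (.old .odd), (.old (.pr 5 61 2 4)), (.old .odd), (.old .two),
   (.old .odd), (.blk 37 132), (.old .odd), (.old .two), (.old .odd), (.old (.pr 13 47 2 3)),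
   (.old .odd), (.old .two), (.old .odd), (.old (.pq 2 2 1223 1)), (.old .odd), (.old .two),
   (.old .odd), .sp, (.old .odd), (.old .two), (.old .odd), (.old (.f4 5 2 7 2)),
   (.old .odd), (.old .two), (.old .odd), (.old (.pq 2 3 613 1)), (.old .odd), (.old .two),
   (.old .odd), (.old (.f4 3 1 409 1)), (.old .odd), (.old .two), (.old .odd), (.old (.pq 2 4 307 1)),
   (.old .odd), (.old .two), (.old .odd), (.old (.pq 2 2 1229 1)), (.old .odd), (.old .two),
   (.old .odd), (.blk 41 120), (.old .odd), (.old .two), (.old .odd), (.old (.pq 2 2 1231 1)),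
   (.old .odd), (.old .two), (.old .odd), (.old (.pr 7 11 2 6)), (.old .odd), (.old .two),
   (.old .odd), (.old (.f4 3 2 137 1)), (.old .odd), (.old .two), (.old .odd), (.old (.pq 2 3 617 1)),
   (.old .odd), (.old .two), (.old .odd), (.blk 19 260), (.old .odd), (.old .two),
   (.old .odd), (.old (.f3 103 1 2 4)), (.old .odd), (.old .two), (.old .odd), (.old (.pq 2 2 1237 1)),
   (.old .odd), (.old .two), (.old .odd), (.old (.pq 2 3 619 1)), (.old .odd), (.old .two),
   (.old .odd), (.blk 59 84), (.old .odd), (.old .two), (.old .odd), (.old (.pr 5 31 2 5)),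
   (.old .odd), (.old .two), (.old .odd), (.old (.f4 17 1 73 1)), (.old .odd), (.old .two),
   (.old .odd), (.blk 23 216), (.old .odd), (.old .two), (.old .odd), (.old (.f4 11 1 113 1)),
   (.old .odd), (.old .two), (.old .odd), (.old (.pq 2 4 311 1)), (.old .odd), (.old .two),
   (.old .odd), (.blk 83 60), (.old .odd), (.old .two), (.old .odd), (.old (.pr 7 89 2 3)),
   (.old .odd), (.old .two), (.old .odd), (.old (.f4 29 1 43 1)), (.old .odd), (.old .two),
   (.old .odd), (.old (.f3 13 1 2 7)), (.old .odd), (.old .two), (.old .odd), (.old (.pq 2 2 1249 1)),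
   (.old .odd), (.old .two), (.old .odd), (.old (.pq 2 3 5 4)), (.old .odd), (.old .two),
   (.old .odd), (.old (.f4 3 2 139 1)), (.old .odd), (.old .two), (.old .odd), (.old (.pq 2 4 313 1)),
   (.old .odd), (.old .two), (.old .odd), (.old (.f4 7 1 179 1)), (.old .odd), (.old .two),
   (.old .odd), (.blk 19 264), (.old .odd), (.old .two), (.old .odd), (.old (.f4 5 1 251 1)),
   (.old .odd), (.old .two), (.old .odd), (.old (.pq 2 5 157 1)), (.old .odd), (.old .two),
   (.old .odd), (.old (.f4 3 1 419 1)), (.old .odd), (.old .two), (.old .odd), (.old (.pr 17 37 2 3)),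
   (.old .odd), (.old .two), (.old .odd), (.old (.pq 2 2 1259 1)), (.old .odd), (.old .two),
   (.old .odd), .sp, (.old .odd), (.old .two), (.old .odd), (.old (.f4 13 1 97 1)),
   (.old .odd), (.old .two), (.old .odd), (.old (.pq 2 3 631 1)), (.old .odd), (.old .two),
   (.old .odd), (.old (.f4 3 1 421 1)), (.old .odd), (.old .two), (.old .odd), (.old (.pq 2 6 79 1)),
   (.old .odd), (.old .two), (.old .odd), (.blk 23 220), (.old .odd), (.old .two),
   (.old .odd), (.old (.f3 211 1 2 3)), (.old .odd), (.old .two), (.old .odd), (.old (.f4 7 1 181 1)),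
   (.old .odd), (.old .two), (.old .odd), (.old (.pq 2 4 317 1)), (.old .odd), (.old .two),
   (.old .odd), (.old (.f4 47 1 3 3)), (.old .odd), (.old .two), (.old .odd), (.old (.pr 5 127 2 3)),
   (.old .odd), (.old .two), (.old .odd), (.old (.f4 31 1 41 1)), (.old .odd), (.old .two),
   (.old .odd), (.old (.f3 53 1 2 5)), (.old .odd), (.old .two), (.old .odd), (.old (.f4 19 1 67 1)),
   (.old .odd), (.old .two), (.old .odd), (.blk 13 392), (.old .odd), (.old .two),
   (.old .odd), (.blk 17 300), (.old .odd), (.old .two), (.old .odd), (.old (.pr 11 29 2 4)),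
   (.old .odd), (.old .two), (.old .odd), (.old (.pq 2 2 1277 1)), (.old .odd), (.old .two),
   (.old .odd), (.blk 71 72), (.old .odd), (.old .two), (.old .odd), (.old (.pq 2 2 1279 1)),
   (.old .odd), (.old .two), (.old .odd), (.old (.pq 2 10 5 1)), (.old .odd), (.old .two),
   (.old .odd), (.blk 61 84), (.old .odd), (.old .two), (.old .odd), (.old (.pq 2 3 641 1)),
   (.old .odd), (.old .two), (.old .odd), (.old (.pq 2 2 1283 1)), (.old .odd), (.old .two),
   (.old .odd), (.old (.f3 107 1 2 4)), (.old .odd), (.old .two), (.old .odd), (.old (.f4 5 1 257 1)),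
   (.old .odd), (.old .two), (.old .odd), (.old (.pq 2 3 643 1)), (.old .odd), (.old .two),
   (.old .odd), .sp, (.old .odd), (.old .two), (.old .odd), (.old (.pr 7 23 2 5)),
   (.old .odd), (.old .two), (.old .odd), (.old (.pq 2 2 1289 1)), (.old .odd), (.old .two),
   (.old .odd), (.blk 43 120), (.old .odd), (.old .two), (.old .odd), (.old (.pq 2 2 1291 1)),
   (.old .odd), (.old .two), (.old .odd), (.old (.pr 17 19 2 4)), (.old .odd), (.old .two),
   (.old .odd), (.old (.f4 3 1 431 1)), (.old .odd), (.old .two), (.old .odd), (.old (.pq 2 3 647 1)),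
   (.old .odd), (.old .two), (.old .odd), (.blk 37 140), (.old .odd), (.old .two),
   (.old .odd), (.old (.pq 2 6 3 4)), (.old .odd), (.old .two), (.old .odd), (.old (.pq 2 2 1297 1)),
   (.old .odd), (.old .two), (.old .odd), (.old (.pr 11 59 2 3)), (.old .odd), (.old .two),
   (.old .odd), (.old (.f4 3 1 433 1)), (.old .odd), (.old .two), (.old .odd), (.blk 13 400),
   (.old .odd), (.old .two), (.old .odd), (.old (.pq 2 2 1301 1)), (.old .odd), (.old .two),
   (.old .odd), (.blk 31 168), (.old .odd), (.old .two), (.old .odd), (.old (.pq 2 2 1303 1)),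
   (.old .odd), (.old .two), (.old .odd), (.old (.pq 2 5 163 1)), (.old .odd), (.old .two),
   (.old .odd), (.blk 29 180), (.old .odd), (.old .two), (.old .odd), (.old (.pq 2 3 653 1)),
   (.old .odd), (.old .two), (.old .odd), (.old (.pq 2 2 1307 1)), (.old .odd), (.old .two),
   (.old .odd), (.old (.f3 109 1 2 4)), (.old .odd), (.old .two), (.old .odd), (.blk 17 308),
   (.old .odd), (.old .two), (.old .odd), (.old (.pr 5 131 2 3)), (.old .odd), (.old .two),
   (.old .odd), (.blk 23 228), (.old .odd), (.old .two), (.old .odd), (.old (.pq 2 7 41 1)),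
   (.old .odd), (.old .two), (.old .odd), (.old (.f4 13 1 101 1)), (.old .odd), (.old .two),
   (.old .odd), (.blk 73 72), (.old .odd), (.old .two), (.old .odd), (.old (.f4 5 1 263 1)),
   (.old .odd), (.old .two), (.old .odd), (.old (.pr 7 47 2 4)), (.old .odd), (.old .two),
   (.old .odd), (.old (.f4 3 1 439 1)), (.old .odd), (.old .two), (.old .odd), (.old (.pq 2 3 659 1)),
   (.old .odd), (.old .two), (.old .odd), (.old (.pq 2 2 1319 1)), (.old .odd), (.old .two),
   (.old .odd), (.blk 11 480), (.old .odd), (.old .two), (.old .odd), (.old (.pq 2 2 1321 1)),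
   (.old .odd), (.old .two), (.old .odd), (.old (.pq 2 3 661 1)), (.old .odd), (.old .two),
   (.old .odd), (.old (.f4 7 2 3 3)), (.old .odd), (.old .two), (.old .odd), (.old (.pq 2 4 331 1)),
   (.old .odd), (.old .two), (.old .odd), (.old (.f4 5 2 53 1)), (.old .odd), (.old .two),
   (.old .odd), (.blk 17 312), (.old .odd), (.old .two), (.old .odd), (.old (.pq 2 2 1327 1)),
   (.old .odd), (.old .two), (.old .odd), (.old (.pq 2 6 83 1)), (.old .odd), (.old .two),
   (.old .odd), (.old (.f4 3 1 443 1)), (.old .odd), (.old .two), (.old .odd), (.blk 19 280),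
   (.old .odd), (.old .two), (.old .odd), (.old (.pq 2 2 11 3)), (.old .odd), (.old .two),
   (.old .odd), (.blk 37 144), (.old .odd), (.old .two), (.old .odd), (.old (.f4 31 1 43 1)),
   (.old .odd), (.old .two), (.old .odd), (.old (.pr 23 29 2 3)), (.old .odd), (.old .two),
   (.old .odd), (.blk 89 60), (.old .odd), (.old .two), (.old .odd), (.old (.pq 2 5 167 1)),
   (.old .odd), (.old .two), (.old .odd), (.old (.f4 7 1 191 1)), (.old .odd), (.old .two),
   (.old .odd), (.old (.f3 223 1 2 3)), (.old .odd), (.old .two), (.old .odd), (.old (.f4 13 1 103 1)),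
   (.old .odd), (.old .two), (.old .odd), (.old (.pr 5 67 2 4)), (.old .odd), (.old .two),
   (.old .odd), (.old (.f4 3 2 149 1)), (.old .odd), (.old .two), (.old .odd), (.old (.pr 11 61 2 3)),
   (.old .odd), (.old .two), (.old .odd), (.old (.f4 17 1 79 1)), (.old .odd), (.old .two),
   (.old .odd), (.old (.f3 7 1 2 8)), (.old .odd), (.old .two), (.old .odd), (.old (.f4 5 1 269 1)),
   (.old .odd), (.old .two), (.old .odd), (.old (.pq 2 3 673 1)), (.old .odd), (.old .two),
   (.old .odd), (.old (.f4 3 1 449 1)), (.old .odd), (.old .two), (.old .odd), (.old (.pq 2 4 337 1)),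
   (.old .odd), (.old .two), (.old .odd), (.old (.f4 19 1 71 1)), (.old .odd), (.old .two),
   (.old .odd), .sp, (.old .odd), (.old .two), (.old .odd), (.old (.f4 7 1 193 1)),
   (.old .odd), (.old .two), (.old .odd), (.old (.pq 2 5 13 2)), (.old .odd), (.old .two),
   (.old .odd), (.blk 41 132), (.old .odd), (.old .two), (.old .odd), (.old (.pq 2 3 677 1)),
   (.old .odd), (.old .two), (.old .odd), (.old (.f4 5 1 271 1)), (.old .odd), (.old .two),
   (.old .odd), (.old (.f3 113 1 2 4)), (.old .odd), (.old .two), (.old .odd), (.old (.f4 23 1 59 1)),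
   (.old .odd), (.old .two), (.old .odd), (.old (.pr 7 97 2 3)), (.old .odd), (.old .two),
   (.old .odd), (.old (.f4 3 2 151 1)), (.old .odd), (.old .two), (.old .odd), (.old (.pr 5 17 2 6)),
   (.old .odd), (.old .two), (.old .odd), (.old (.pq 2 2 1361 1)), (.old .odd), (.old .two),
   (.old .odd), (.old (.f3 227 1 2 3)), (.old .odd), (.old .two), (.old .odd), (.old (.f4 29 1 47 1)),
   (.old .odd), (.old .two), (.old .odd), (.old (.pr 11 31 2 4)), (.old .odd), (.old .two),
   (.old .odd), .sp, (.old .odd), (.old .two), (.old .odd), (.old (.pq 2 3 683 1)),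
   (.old .odd), (.old .two), (.old .odd), (.old (.pq 2 2 1367 1)), (.old .odd), (.old .two),
   (.old .odd), .sp, (.old .odd), (.old .two), (.old .odd), (.old (.pq 2 2 37 2)),
   (.old .odd), (.old .two), (.old .odd), (.old (.pr 5 137 2 3)), (.old .odd), (.old .two),
   (.old .odd), (.old (.f4 3 1 457 1)), (.old .odd), (.old .two), (.old .odd), (.old (.pq 2 4 7 3)),
   (.old .odd), (.old .two), (.old .odd), (.old (.pq 2 2 1373 1)), (.old .odd), (.old .two),
   (.old .odd), (.old (.f3 229 1 2 3)), (.old .odd), (.old .two), (.old .odd), (.old (.f4 11 1 5 3)),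
   (.old .odd), (.old .two), (.old .odd), (.old (.pq 2 7 43 1)), (.old .odd), (.old .two),
   (.old .odd), (.old (.f4 17 1 3 4)), (.old .odd), (.old .two), (.old .odd), (.old (.pr 13 53 2 3)),
   (.old .odd), (.old .two), (.old .odd), (.old (.f4 7 1 197 1)), (.old .odd), (.old .two),
   (.old .odd), (.blk 23 240), (.old .odd), (.old .two), (.old .odd), (.old (.pq 2 2 1381 1)),
   (.old .odd), (.old .two), (.old .odd), (.old (.pq 2 3 691 1)), (.old .odd), (.old .two),
   (.old .odd), (.old (.f4 3 1 461 1)), (.old .odd), (.old .two), (.old .odd), (.old (.pq 2 5 173 1)),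
   (.old .odd), (.old .two), (.old .odd), (.old (.f4 5 1 277 1)), (.old .odd), (.old .two),
   (.old .odd), (.blk 11 504), (.old .odd), (.old .two), (.old .odd), (.old (.f4 19 1 73 1)),
   (.old .odd), (.old .two), (.old .odd), (.old (.pq 2 4 347 1)), (.old .odd), (.old .two),
   (.old .odd), (.old (.f4 3 1 463 1)), (.old .odd), (.old .two), (.old .odd), (.old (.pr 5 139 2 3)),
   (.old .odd), (.old .two), (.old .odd), (.old (.f4 13 1 107 1)), (.old .odd), (.old .two),
   (.old .odd), (.old (.f3 29 1 2 6)), (.old .odd), (.old .two), (.old .odd), (.old (.f4 7 1 199 1)),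
   (.old .odd), (.old .two), (.old .odd), (.old (.pr 17 41 2 3)), (.old .odd), (.old .two),
   (.old .odd), (.blk 31 180), (.old .odd), (.old .two), (.old .odd), (.old (.pq 2 4 349 1)),
   (.old .odd), (.old .two), (.old .odd), (.old (.f4 11 1 127 1)), (.old .odd), (.old .two),
   (.old .odd), (.old (.f3 233 1 2 3)), (.old .odd), (.old .two), (.old .odd), (.old (.pq 2 2 1399 1)),
   (.old .odd), (.old .two), (.old .odd), (.blk 7 800), (.old .odd), (.old .two),
   (.old .odd), (.old (.f4 3 1 467 1)), (.old .odd), (.old .two), (.old .odd), (.old (.pq 2 3 701 1)),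
   (.old .odd), (.old .two), (.old .odd), (.old (.f4 23 1 61 1)), (.old .odd), (.old .two),
   (.old .odd), .ok, (.old .odd), (.old .two), (.old .odd), (.old (.f4 5 1 281 1)),
   (.old .odd), (.old .two), (.old .odd), (.old (.pr 19 37 2 3)), (.old .odd), (.old .two),
   (.old .odd), (.blk 67 84), (.old .odd), (.old .two), (.old .odd), (.old (.pq 2 9 11 1)),
   (.old .odd), (.old .two), (.old .odd), (.old (.pq 2 2 1409 1)), (.old .odd), (.old .two),
   (.old .odd), (.blk 47 120), (.old .odd), (.old .two), (.old .odd), (.old (.f4 17 1 83 1)),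
   (.old .odd), (.old .two), (.old .odd), (.old (.pq 2 4 353 1)), (.old .odd), (.old .two),
   (.old .odd), (.old (.f4 3 2 157 1)), (.old .odd), (.old .two), (.old .odd), (.old (.pr 7 101 2 3)),
   (.old .odd), (.old .two), (.old .odd), (.old (.f4 5 1 283 1)), (.old .odd), (.old .two),
   (.old .odd), (.old (.f3 59 1 2 5)), (.old .odd), (.old .two), (.old .odd), (.old (.f4 13 1 109 1)),
   (.old .odd), (.old .two), (.old .odd), (.old (.pq 2 3 709 1)), (.old .odd), (.old .two),
   (.old .odd), (.blk 43 132), (.old .odd), (.old .two), (.old .odd), (.old (.pr 5 71 2 4)),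
   (.old .odd), (.old .two), (.old .odd), (.old (.f4 7 2 29 1)), (.old .odd), (.old .two),
   (.old .odd), (.blk 79 72), (.old .odd), (.old .two), (.old .odd), (.old (.pq 2 2 1423 1)),
   (.old .odd), (.old .two), (.old .odd), (.old (.pq 2 6 89 1)), (.old .odd), (.old .two),
   (.old .odd), (.blk 19 300), (.old .odd), (.old .two), (.old .odd), (.old (.pr 23 31 2 3)),
   (.old .odd), (.old .two), (.old .odd), (.old (.pq 2 2 1427 1)), (.old .odd), (.old .two),
   (.old .odd), (.blk 17 336), (.old .odd), (.old .two), (.old .odd), (.old (.pq 2 2 1429 1)),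
   (.old .odd), (.old .two), (.old .odd), (.blk 13 440), (.old .odd), (.old .two),
   (.old .odd), (.old (.f4 53 1 3 3)), (.old .odd), (.old .two), (.old .odd), (.old (.pq 2 5 179 1)),
   (.old .odd), (.old .two), (.old .odd), (.old (.pq 2 2 1433 1)), (.old .odd), (.old .two),
   (.old .odd), (.old (.f3 239 1 2 3)), (.old .odd), (.old .two), (.old .odd), (.blk 41 140),
   (.old .odd), (.old .two), (.old .odd), (.old (.pq 2 4 359 1)), (.old .odd), (.old .two),
   (.old .odd), (.old (.f4 3 1 479 1)), (.old .odd), (.old .two), (.old .odd), (.old (.pq 2 3 719 1)),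
   (.old .odd), (.old .two), (.old .odd), (.old (.pq 2 2 1439 1)), (.old .odd), (.old .two),
   (.old .odd), .sp, (.old .odd), (.old .two), (.old .odd), (.old (.f4 11 1 131 1)),
   (.old .odd), (.old .two), (.old .odd), (.old (.pr 7 103 2 3)), (.old .odd), (.old .two),
   (.old .odd), (.blk 37 156), (.old .odd), (.old .two), (.old .odd), (.old (.pq 2 4 19 2)),
   (.old .odd), (.old .two), (.old .odd), (.old (.f4 5 1 17 2)), (.old .odd), (.old .two),
   (.old .odd), (.old (.f3 241 1 2 3)), (.old .odd), (.old .two), (.old .odd), (.old (.pq 2 2 1447 1)),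
   (.old .odd), (.old .two), (.old .odd), (.old (.pq 2 5 181 1)), (.old .odd), (.old .two),
   (.old .odd), (.blk 23 252), (.old .odd), (.old .two), (.old .odd), (.blk 29 200),
   (.old .odd), (.old .two), (.old .odd), (.old (.pq 2 2 1451 1)), (.old .odd), (.old .two),
   (.old .odd), (.old (.f3 11 2 2 4)), (.old .odd), (.old .two), (.old .odd), (.old (.pq 2 2 1453 1)),
   (.old .odd), (.old .two), (.old .odd), (.old (.pq 2 3 727 1)), (.old .odd), (.old .two),
   (.old .odd), (.blk 97 60), (.old .odd), (.old .two), (.old .odd), (.old (.pr 7 13 2 6)),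
   (.old .odd), (.old .two), (.old .odd), (.old (.f4 31 1 47 1)), (.old .odd), (.old .two),
   (.old .odd), (.old (.pq 2 3 3 6)), (.old .odd), (.old .two), (.old .odd), (.old (.pq 2 2 1459 1)),
   (.old .odd), (.old .two), (.old .odd), (.old (.pr 5 73 2 4)), (.old .odd), (.old .two),
   (.old .odd), (.old (.f4 3 1 487 1)), (.old .odd), (.old .two), (.old .odd), (.old (.pr 17 43 2 3)),
   (.old .odd), (.old .two), (.old .odd), (.blk 19 308), (.old .odd), (.old .two),
   (.old .odd), (.old (.f3 61 1 2 5)), (.old .odd), (.old .two), (.old .odd), (.old (.f4 5 1 293 1)),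
   (.old .odd), (.old .two), (.old .odd), (.old (.pq 2 3 733 1)), (.old .odd), (.old .two),
   (.old .odd), (.old (.f4 3 2 163 1)), (.old .odd), (.old .two), (.old .odd), (.old (.pq 2 4 367 1)),
   (.old .odd), (.old .two), (.old .odd), (.old (.f4 13 1 113 1)), (.old .odd), (.old .two),
   (.old .odd), .sp, (.old .odd), (.old .two), (.old .odd), (.old (.pq 2 2 1471 1)),
   (.old .odd), (.old .two), (.old .odd), (.old (.pq 2 8 23 1)), (.old .odd), (.old .two),
   (.old .odd), (.old (.f4 3 1 491 1)), (.old .odd), (.old .two), (.old .odd), (.old (.pr 11 67 2 3)),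
   (.old .odd), (.old .two), (.old .odd), (.old (.f4 5 2 59 1)), (.old .odd), (.old .two),
   (.old .odd), (.blk 41 144), (.old .odd), (.old .two), (.old .odd), (.old (.f4 7 1 211 1)),
   (.old .odd), (.old .two), (.old .odd), (.old (.pq 2 3 739 1)), (.old .odd), (.old .two),
   (.old .odd), (.blk 29 204), (.old .odd), (.old .two), (.old .odd), (.old (.pr 5 37 2 5)),
   (.old .odd), (.old .two), (.old .odd), (.old (.pq 2 2 1481 1)), (.old .odd), (.old .two),
   (.old .odd), (.blk 19 312), (.old .odd), (.old .two), (.old .odd), (.old (.pq 2 2 1483 1)),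
   (.old .odd), (.old .two), (.old .odd), (.old (.pr 7 53 2 4)), (.old .odd), (.old .two),
   (.old .odd), (.blk 11 540), (.old .odd), (.old .two), (.old .odd), (.old (.pq 2 3 743 1)),
   (.old .odd), (.old .two), (.old .odd), (.old (.pq 2 2 1487 1)), (.old .odd), (.old .two),
   (.old .odd), (.old (.f3 31 1 2 6)), (.old .odd), (.old .two), (.old .odd), (.old (.pq 2 2 1489 1)),
   (.old .odd), (.old .two), (.old .odd), (.old (.pr 5 149 2 3)), (.old .odd), (.old .two),
   (.old .odd), (.blk 71 84), (.old .odd), (.old .two), (.old .odd), (.old (.pq 2 4 373 1)),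
   (.old .odd), (.old .two), (.old .odd), (.old (.pq 2 2 1493 1)), (.old .odd), (.old .two),
   (.old .odd), (.blk 83 72), (.old .odd), (.old .two), (.old .odd), (.blk 23 260),
   (.old .odd), (.old .two), (.old .odd), (.old (.pr 11 17 2 5)), (.old .odd), (.old .two),
   (.old .odd), (.old (.f4 3 1 499 1)), (.old .odd), (.old .two), (.old .odd), (.old (.pr 7 107 2 3)),
   (.old .odd), (.old .two), (.old .odd), (.old (.pq 2 2 1499 1)), (.old .odd), (.old .two),
   (.old .odd), .sp, (.old .odd), (.old .two), (.old .odd), (.old (.f4 19 1 79 1)),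
   (.old .odd), (.old .two), (.old .odd), (.old (.pq 2 3 751 1)), (.old .odd), (.old .two),
   (.old .odd), (.old (.f4 3 2 167 1)), (.old .odd), (.old .two), (.old .odd), (.old (.pq 2 7 47 1)),
   (.old .odd), (.old .two), (.old .odd), (.blk 43 140), (.old .odd), (.old .two),
   (.old .odd), (.old (.f3 251 1 2 3)), (.old .odd), (.old .two), (.old .odd), (.old (.f4 11 1 137 1)),
   (.old .odd), (.old .two), (.old .odd), (.old (.pr 13 29 2 4)), (.old .odd), (.old .two),
   (.old .odd), (.old (.f4 3 1 503 1)), (.old .odd), (.old .two), (.old .odd), (.old (.pr 5 151 2 3)),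
   (.old .odd), (.old .two), (.old .odd), (.old (.pq 2 2 1511 1)), (.old .odd), (.old .two),
   (.old .odd), .ok, (.old .odd), (.old .two), (.old .odd), (.old (.f4 17 1 89 1)),
   (.old .odd), (.old .two), (.old .odd), (.old (.pq 2 3 757 1)), (.old .odd), (.old .two),
   (.old .odd), (.blk 101 60), (.old .odd), (.old .two), (.old .odd), (.old (.pq 2 4 379 1)),
   (.old .odd), (.old .two), (.old .odd), (.old (.f4 37 1 41 1)), (.old .odd), (.old .two),
   (.old .odd), .ok, (.old .odd), (.old .two), (.old .odd), (.old (.f4 7 2 31 1)),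
   (.old .odd), (.old .two), (.old .odd), (.old (.pr 5 19 2 6)), (.old .odd), (.old .two),
   (.old .odd), (.old (.f4 3 2 13 2)), (.old .odd), (.old .two), (.old .odd), (.old (.pq 2 3 761 1)),
   (.old .odd), (.old .two), (.old .odd), (.old (.pq 2 2 1523 1)), (.old .odd), (.old .two),
   (.old .odd), (.old (.f3 127 1 2 4)), (.old .odd), (.old .two), (.old .odd), (.old (.f4 5 2 61 1)),
   (.old .odd), (.old .two), (.old .odd), (.old (.pr 7 109 2 3)), (.old .odd), (.old .two),
   (.old .odd), (.old (.f4 3 1 509 1)), (.old .odd), (.old .two), (.old .odd), (.old (.pq 2 5 191 1)),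
   (.old .odd), (.old .two), (.old .odd), (.old (.f4 11 1 139 1)), (.old .odd), (.old .two),
   (.old .odd), (.blk 17 360), (.old .odd), (.old .two), (.old .odd), (.old (.pq 2 2 1531 1)),
   (.old .odd), (.old .two), (.old .odd), (.old (.pq 2 4 383 1)), (.old .odd), (.old .two),
   (.old .odd), (.blk 73 84), (.old .odd), (.old .two), (.old .odd), (.old (.pr 13 59 2 3)),
   (.old .odd), (.old .two), (.old .odd), (.old (.f4 5 1 307 1)), (.old .odd), (.old .two),
   (.old .odd), (.old (.pq 2 11 3 1)), (.old .odd), (.old .two), (.old .odd), (.old (.f4 29 1 53 1)),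
   (.old .odd), (.old .two), (.old .odd), (.old (.pq 2 3 769 1)), (.old .odd), (.old .two),
   (.old .odd), (.old (.f4 19 1 3 4)), (.old .odd), (.old .two), (.old .odd), (.blk 7 880),
   (.old .odd), (.old .two), (.old .odd), (.old (.f4 23 1 67 1)), (.old .odd), (.old .two),
   (.old .odd), (.old (.f3 257 1 2 3)), (.old .odd), (.old .two), (.old .odd), (.old (.pq 2 2 1543 1)),
   (.old .odd), (.old .two), (.old .odd), (.old (.pq 2 5 193 1)), (.old .odd), (.old .two),
   (.old .odd), (.blk 103 60), (.old .odd), (.old .two), (.old .odd), (.old (.pq 2 3 773 1)),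
   (.old .odd), (.old .two), (.old .odd), (.blk 17 364), (.old .odd), (.old .two),
   (.old .odd), (.blk 43 144), (.old .odd), (.old .two), (.old .odd), (.old (.pq 2 2 1549 1)),
   (.old .odd), (.old .two), (.old .odd), (.blk 31 200), (.old .odd), (.old .two),
   (.old .odd), (.blk 47 132), (.old .odd), (.old .two), (.old .odd), (.old (.pq 2 6 97 1)),
   (.old .odd), (.old .two), (.old .odd), (.old (.pq 2 2 1553 1)), (.old .odd), (.old .two),
   (.old .odd), (.blk 37 168), (.old .odd), (.old .two), (.old .odd), (.old (.f4 5 1 311 1)),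
   (.old .odd), (.old .two), (.old .odd), (.old (.pq 2 4 389 1)), (.old .odd), (.old .two),
   (.old .odd), (.old (.f4 3 2 173 1)), (.old .odd), (.old .two), (.old .odd), (.old (.pr 19 41 2 3))
  ]

theorem tblT_length : tblT.length = 2592 := by decide +kernel

theorem tblT_check : checkT tblT 3641 = true := by decide +kernel

section Groups

variable {G : Type u} [Group G] [Finite G] [IsSimpleGroup G]

theorem of_special {n : ℕ} (h : Nat.card G = n) (hs : spT n = true) : False := by
  have hs' : n = 3648 ∨ n = 3744 ∨ n = 4032 ∨ n = 4320 ∨ n = 5040 ∨ n = 5472 ∨ n = 5760 ∨ n = 3780 ∨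
      n = 3920 ∨ n = 4200 ∨ n = 4536 ∨ n = 4620 ∨ n = 4840 ∨ n = 4896 ∨ n = 5148 ∨ n = 5400 ∨
      n = 5460 ∨ n = 5880 ∨ n = 6000 := by
    simpa [spT, or_assoc] using hs
  rcases hs' with rfl | rfl | rfl | rfl | rfl | rfl | rfl | rfl | rfl | rfl | rfl | rfl | rfl | rfl | rfl | rfl | rfl |
    rfl | rfl
  · exact Cfsg.Agent.S0974.result h
  · exact Cfsg.Agent.S0975.result h
  · exact Cfsg.Agent.S0976.result h
  · exact Cfsg.Agent.S0977.result h
  · exact Cfsg.Agent.S0978.result h
  · exact Cfsg.Agent.S0979.result h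
  · exact Cfsg.Agent.S0980.result h
  · exact no_3780 h
  · exact no_3920 h
  · exact no_4200 h
  · exact no_4536 h
  · exact no_4620 h
  · exact no_4840 h
  · exact no_4896 h
  · exact no_5148 h
  · exact no_5400 h
  · exact no_5460 h
  · exact no_5880 h
  · exact no_6000 h

/-- The soundness of a certificate. -/
theorem of_certT (hG : ¬ IsMulCommutative G) {w : TCert} {n : ℕ} (hv : validT w n = true) (h : Nat.card G = n) :
    okT n = true ∨ Order1092.okB n = true := by
  cases w with
  | ok => exact Or.inl hv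
  | sp => exact (of_special h hv).elim
  | old c => exact Or.inr (Order1092.of_cert hG hv h)
  | blk p m =>
    exfalso
    simp only [validT, Bool.and_eq_true, beq_iff_eq, bne_iff_ne, ne_eq, decide_eq_true_eq] at hv
    obtain ⟨⟨⟨⟨⟨⟨hp, h2⟩, h3⟩, hn⟩, hpm⟩, hm⟩, hc⟩ := hv
    exact false_of_block (primeB_sound hp) h2 h3 (h.trans hn) (fun hd => hpm (Nat.mod_eq_zero_of_dvd hd)) hm hc

/-- The main theorem. -/
theorem main (hG : ¬ IsMulCommutative G) (h1 : 3640 < Nat.card G) (h2 : Nat.card G ≤ 6232) :
    Nat.card G = 4080 ∨ Nat.card G = 5616 ∨ Nat.card G = 6048 ∨ Nat.card G = 6072 := by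
  obtain ⟨w, hw⟩ := checkT_sound tblT 3641 tblT_check (Nat.card G - 3641) (by rw [tblT_length]; omega)
  have h3 : 3641 + (Nat.card G - 3641) = Nat.card G := by omega
  rw [h3] at hw
  rcases of_certT hG hw rfl with h4 | h4
  · simpa [okT, or_assoc] using h4
  · exfalso
    simp only [Order1092.okB, Bool.or_eq_true, beq_iff_eq] at h4
    omega

end Groups

end Cfsg.Agent.Lib.SmallOrd.R3640
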